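import Cfsg.Agent.J2Cent.Checks

/-! The centraliser of an involution in the group on one hundred points. -/

set_option autoImplicit false
set_option maxRecDepth 100000

noncomputable section

namespace CfsgLib.J2Cent

open CfsgLib.Mathieu CfsgLib.Mathieu.HallJanko Data
open Equiv (Perm)

/-- A member of the class. -/
def cl (i : ℕ) : Perm (Fin 100) := perm (cls.getD i 0)

theorem level0_gens_mem {t : ℕ} (ht : t ∈ level0.gens) : t ∈ strong := by
  have h : (level0.gens.all fun g => strong.contains g) = true := by decide +kernel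
  exact List.contains_iff_mem.1 (List.all_eq_true.1 h t ht)

theorem mem_hj {t : ℕ} (ht : t ∈ tabs) (h : Schreier.sift 100 chain [t] = true) : perm t ∈ hj := by
  have := (Schreier.sift_sound chain (Schreier.levelSpec_of_ok _ chain_ok chain_perms) [t] [perm t]
    (.cons (rep_tabs ht) .nil) h).1
  simpa [hj] using this

theorem b0_sift : Schreier.sift 100 chain [cls.getD 0 0] = true := by decide +kernel

theorem b0_mem_hj : b0 ∈ hj := mem_hj b0_mem b0_sift

theorem gens_length : level0.gens.length = 5 := by decide +kernel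

theorem conj_gen {j i : ℕ} (hj' : j < 5) (hi : i < 315) :
    (conjTabs.getD j []).getD i 0 < 315 ∧ perm (level0.gens.getD j 0) * cl i =
      cl ((conjTabs.getD j []).getD i 0) * perm (level0.gens.getD j 0) := by
  have h := List.all_eq_true.1 (chkConjGen_ok hj') i (List.mem_range.2 hi)
  simp only [Bool.and_eq_true, Nat.blt_eq] at h
  refine ⟨h.1, ?_⟩
  have hg : level0.gens.getD j 0 ∈ tabs := strong_mem (level0_gens_mem (by
    rw [List.getD_eq_getElem _ _ (by rw [gens_length]; exact hj')]
    exact List.getElem_mem _))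
  have := prod_eq (w := [level0.gens.getD j 0, cls.getD i 0])
    (w' := [cls.getD ((conjTabs.getD j []).getD i 0) 0, level0.gens.getD j 0]) ?_ ?_ h.2
  · simpa [cl] using this
  · intro t ht
    simp only [List.mem_cons, List.not_mem_nil, or_false] at ht
    rcases ht with rfl | rfl
    exacts [hg, cls_mem (cls_getD_mem hi)]
  · intro t ht
    simp only [List.mem_cons, List.not_mem_nil, or_false] at ht
    rcases ht with rfl | rfl
    exacts [cls_mem (cls_getD_mem h.1), hg]

theorem conj_closed {g : Perm (Fin 100)} (hg : g ∈ hj) :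
    ∀ i < 315, ∃ j < 315, g * cl i = cl j * g := by
  have hg' : g ∈ Submonoid.closure {σ | ∃ t ∈ Schreier.topGens chain, Rep (Equiv.refl (Fin 100)) σ t} := by
    rw [hj, Schreier.group] at hg
    rwa [← Subgroup.mem_toSubmonoid, Subgroup.closure_toSubmonoid_of_finite] at hg
  induction hg' using Submonoid.closure_induction with
  | mem s hs =>
    obtain ⟨t, ht, r⟩ := hs
    obtain ⟨k, hk, e⟩ := List.mem_iff_getElem.1 (show t ∈ level0.gens from ht)
    intro i hi
    rw [gens_length] at hk
    obtain ⟨h1, h2⟩ := conj_gen hk hi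
    rw [List.getD_eq_getElem _ _ (by rw [gens_length]; exact hk), e, ← eq_perm r] at h2
    exact ⟨_, h1, h2⟩
  | one => exact fun i hi => ⟨i, hi, by rw [one_mul, mul_one]⟩
  | mul a b ha hb iha ihb =>
    intro i hi
    have hmem : ∀ {y}, y ∈ Submonoid.closure {σ | ∃ t ∈ Schreier.topGens chain,
        Rep (Equiv.refl (Fin 100)) σ t} → y ∈ hj := fun {y} hy => by
      rw [hj, Schreier.group, ← Subgroup.mem_toSubmonoid, Subgroup.closure_toSubmonoid_of_finite]
      exact hy
    obtain ⟨m, hm, e1⟩ := ihb (hmem hb) i hi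
    obtain ⟨n, hn, e2⟩ := iha (hmem ha) m hm
    exact ⟨n, hn, by rw [mul_assoc, e1, ← mul_assoc, e2, mul_assoc]⟩

theorem reach : ∀ i < 315, ∃ g ∈ hj, g * b0 * g⁻¹ = cl i := by
  intro i
  induction i using Nat.strong_induction_on with
  | _ i ih =>
    intro hi
    match i with
    | 0 => exact ⟨1, one_mem _, by simp [cl, b0]⟩
    | i + 1 =>
      have h := List.all_eq_true.1 chkParents_ok i (List.mem_range.2 (by omega))
      simp only [Bool.and_eq_true, decide_eq_true_eq, beq_iff_eq] at h
      obtain ⟨⟨hp, hlt⟩, heq⟩ := h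
      obtain ⟨g, hg, he⟩ := ih _ (Nat.lt_succ_of_le hp) (by omega)
      obtain ⟨-, h2⟩ := conj_gen hlt (show (parents.getD (i + 1) (0, 0)).1 < 315 by omega)
      have hm : level0.gens.getD (parents.getD (i + 1) (0, 0)).2 0 ∈ level0.gens := by
        rw [List.getD_eq_getElem _ _ (by rw [gens_length]; exact hlt)]
        exact List.getElem_mem _
      have hmj : perm (level0.gens.getD (parents.getD (i + 1) (0, 0)).2 0) ∈ hj :=
        Subgroup.subset_closure ⟨_, hm, rep_tabs (strong_mem (level0_gens_mem hm))⟩
      refine ⟨_, mul_mem hmj hg, ?_⟩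
      rw [heq, ← he] at h2
      rw [eq_mul_inv_iff_mul_eq.2 h2.symm]
      group

theorem cl_inj {i j : ℕ} (hi : i < 315) (hj' : j < 315) (e : cl i = cl j) : i = j := by
  have li : i < cls.length := by rw [cls_length]; exact hi
  have lj : j < cls.length := by rw [cls_length]; exact hj'
  have hp := (List.Nodup.getElem_inj_iff cls_distinct (i := i) (j := j) (hi := by simpa using li)
    (hj := by simpa using lj)).1
  refine hp ?_
  simp only [List.getElem_map]
  rw [← List.getD_eq_getElem cls 0 li, ← List.getD_eq_getElem cls 0 lj]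
  refine mod_eq_of_app fun x hx => ?_
  have hx' : x < 100 := lt_trans hx (by norm_num)
  have h : ∀ k, k < 315 → app (cls.getD k 0) x = (cl k ⟨x, hx'⟩).1 := fun k hk =>
    rep_tabs (cls_mem (cls_getD_mem hk)) ⟨x, hx'⟩
  rw [h i hi, h j hj', e]

/-- The involution in the group. -/
def bh : hj := ⟨b0, b0_mem_hj⟩

/-- The centraliser. -/
def centH : Subgroup hj := Subgroup.centralizer {bh}

theorem index_centH : centH.index = 315 := by
  have hex : ∀ g : hj, ∃ i : Fin 315, (g : Perm (Fin 100)) * b0 = cl i.1 * g := fun g => by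
    obtain ⟨j, hj', e⟩ := conj_closed g.2 0 (by norm_num)
    exact ⟨⟨j, hj'⟩, e⟩
  choose f hf using hex
  have key : ∀ a b : hj, f a = f b ↔ a⁻¹ * b ∈ centH := by
    intro a b
    have he : ∀ c : hj, cl (f c).1 = (c : Perm (Fin 100)) * b0 * (c : Perm (Fin 100))⁻¹ := fun c =>
      eq_mul_inv_iff_mul_eq.2 (hf c).symm
    rw [centH, Subgroup.mem_centralizer_singleton_iff]
    constructor
    · intro h
      refine Subtype.ext ?_
      have h' := he a
      rw [h, he b] at h'
      calc ((a⁻¹ * b * bh : hj) : Perm (Fin 100)) =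
            (a : Perm (Fin 100))⁻¹ * ((b : Perm (Fin 100)) * b0 * (b : Perm (Fin 100))⁻¹) * b := by
              simp [bh, mul_assoc]
        _ = ((bh * (a⁻¹ * b) : hj) : Perm (Fin 100)) := by rw [h']; simp [bh, mul_assoc]
    · intro h
      refine Fin.ext (cl_inj (f a).2 (f b).2 ?_)
      have h' := congrArg Subtype.val h
      simp only [Subgroup.coe_mul, Subgroup.coe_inv, bh] at h'
      rw [he, he]
      calc (a : Perm (Fin 100)) * b0 * (a : Perm (Fin 100))⁻¹ =
            a * (b0 * ((a : Perm (Fin 100))⁻¹ * b)) * (b : Perm (Fin 100))⁻¹ := by simp [mul_assoc]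
        _ = _ := by rw [← h']; simp [mul_assoc]
  rw [Subgroup.index, ← Nat.card_fin 315]
  refine Nat.card_eq_of_bijective (Quotient.lift f fun a b h =>
    (key a b).2 (QuotientGroup.leftRel_apply.1 h)) ⟨?_, fun i => ?_⟩
  · intro x y
    induction x using Quotient.inductionOn with | h a =>
    induction y using Quotient.inductionOn with | h b =>
    intro h
    exact Quotient.sound (QuotientGroup.leftRel_apply.2 ((key a b).1 h))
  · obtain ⟨g, hg, e⟩ := reach i.1 i.2
    refine ⟨QuotientGroup.mk ⟨g, hg⟩, Fin.ext (cl_inj (f _).2 i.2 ?_)⟩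
    rw [← e, eq_mul_inv_iff_mul_eq]
    exact (hf ⟨g, hg⟩).symm

theorem card_centH : Nat.card centH = 1920 := by
  have h := centH.card_mul_index
  rw [index_centH, card_hj] at h
  omega

end CfsgLib.J2Cent
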