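import Cfsg.Agent.J2Cent.Tables

/-! The checks on the conjugacy class of the involution. -/

set_option autoImplicit false
set_option maxRecDepth 100000

namespace CfsgLib.J2Cent

open CfsgLib.Mathieu CfsgLib.Mathieu.HallJanko Data

/-- The class is closed under conjugation by one generator. -/
def chkConjGen (j : ℕ) : Bool :=
  (List.range 315).all fun i =>
    Nat.blt ((conjTabs.getD j []).getD i 0) 315 &&
      allBelow 100 fun x => Schreier.evalWord [level0.gens.getD j 0, cls.getD i 0] x ==
        Schreier.evalWord [cls.getD ((conjTabs.getD j []).getD i 0) 0, level0.gens.getD j 0] x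

-- one kernel evaluation at a time, so that their memory does not add up
set_option Elab.async false

theorem chkConjGen_zero : chkConjGen 0 = true := by decide +kernel

theorem chkConjGen_one : chkConjGen 1 = true := by decide +kernel

theorem chkConjGen_two : chkConjGen 2 = true := by decide +kernel

theorem chkConjGen_three : chkConjGen 3 = true := by decide +kernel

theorem chkConjGen_four : chkConjGen 4 = true := by decide +kernel

theorem chkConjGen_ok {j : ℕ} (hj : j < 5) : chkConjGen j = true := by
  interval_cases j
  exacts [chkConjGen_zero, chkConjGen_one, chkConjGen_two, chkConjGen_three, chkConjGen_four]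

/-- The parents give a tree. -/
def chkParents : Bool :=
  (List.range 314).all fun i => decide ((parents.getD (i + 1) (0, 0)).1 ≤ i) &&
    decide ((parents.getD (i + 1) (0, 0)).2 < 5) &&
      (conjTabs.getD (parents.getD (i + 1) (0, 0)).2 []).getD (parents.getD (i + 1) (0, 0)).1 0 == i + 1

theorem chkParents_ok : chkParents = true := by decide +kernel

/-- No two numbers of the list agree modulo `M`. -/
def nodupMod (M : ℕ) : List ℕ → Bool
  | [] => true
  | a :: r => (r.all fun b => !(Nat.beq (a % M) (b % M))) && nodupMod M r

theorem nodup_of_nodupMod {M : ℕ} : ∀ {l : List ℕ}, nodupMod M l = true → (l.map (· % M)).Nodup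
  | [], _ => List.nodup_nil
  | a :: r, h => by
    simp only [nodupMod, Bool.and_eq_true, List.all_eq_true] at h
    refine List.nodup_cons.2 ⟨fun hm => ?_, nodup_of_nodupMod h.2⟩
    obtain ⟨b, hb, e⟩ := List.mem_map.1 hm
    have := h.1 b hb
    simp [e] at this

theorem cls_nodupMod : nodupMod (256 ^ 20) cls = true := by decide +kernel

theorem cls_distinct : (cls.map (· % 256 ^ 20)).Nodup := nodup_of_nodupMod cls_nodupMod

/-- A table is fixed modulo `256 ^ n` by its first `n` values. -/
theorem mod_eq_of_app {s t : ℕ} : ∀ {n : ℕ}, (∀ x < n, app s x = app t x) → s % 256 ^ n = t % 256 ^ n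
  | 0, _ => by simp [Nat.mod_one]
  | n + 1, h => by
    have ih := mod_eq_of_app fun x hx => h x (Nat.lt_succ_of_lt hx)
    have e := h n (Nat.lt_succ_self n)
    simp only [app, Nat.shiftRight_eq_div_pow, show (2 : ℕ) ^ (8 * n) = 256 ^ n by
      rw [pow_mul]; norm_num] at e
    rw [pow_succ, Nat.mod_mul, Nat.mod_mul, ih, e]

end CfsgLib.J2Cent
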