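import Cfsg.Agent.J2Cent.Psi

/-! The kernel is extraspecial. -/

set_option autoImplicit false
set_option maxRecDepth 100000

noncomputable section

namespace CfsgLib.J2Cent

open CfsgLib.Mathieu CfsgLib.Mathieu.HallJanko Data
open Equiv (Perm)

/-- Equality of two words of tables. -/
def eqW (w w' : List ℕ) : Bool :=
  allBelow 100 fun x => Schreier.evalWord w x == Schreier.evalWord w' x

theorem eqW_iff {w w' : List ℕ} (hw : ∀ t ∈ w ++ w', t ∈ tabs) :
    eqW w w' = true ↔ (w.map perm).prod = (w'.map perm).prod := by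
  refine ⟨word_eq hw, fun e => allBelow_iff.2 fun x hx => beq_iff_eq.2 ?_⟩
  have f : ∀ v : List ℕ, (∀ t ∈ v, t ∈ tabs) →
      List.Forall₂ (fun t σ => Rep (Equiv.refl (Fin 100)) σ t) v (v.map perm) := by
    intro v hv
    induction v with
    | nil => exact .nil
    | cons a v ih =>
      exact .cons (rep_tabs (hv a List.mem_cons_self)) (ih fun t ht => hv t (List.mem_cons_of_mem _ ht))
  have h1 := Schreier.evalWord_eq (f w fun t ht => hw t (List.mem_append_left _ ht)) ⟨x, hx⟩
  have h2 := Schreier.evalWord_eq (f w' fun t ht => hw t (List.mem_append_right _ ht)) ⟨x, hx⟩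
  rw [e] at h1
  exact h1.trans h2.symm

/-- The checks on the extraspecial group. -/
def chkExtra : Bool :=
  let b := cls.getD 0 0
  let Q := fun i : ℕ => (qPairs.map Prod.fst).getD i 0
  ((List.range 32).all fun i =>
    (eqW [Q i, Q i] [] || eqW [Q i, Q i] [b]) &&
    (List.range 32).all (fun j => eqW [Q i, Q j] [Q j, Q i] || eqW [Q i, Q j] [b, Q j, Q i]) &&
    (eqW [Q i] [] || eqW [Q i] [b] || (List.range 32).any fun j => !eqW [Q j, Q i] [Q i, Q j])) &&
  ((List.range 32).any fun i => eqW [Q i] [b]) &&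
  (List.range 32).any fun i => (List.range 32).any fun j => !eqW [Q i, Q j] [Q j, Q i]

theorem chkExtra_ok : chkExtra = true := by decide +kernel

/-- The kernel among the permutations. -/
def kerT : Subgroup (Perm (Fin 100)) := psi5.ker.map centG.subtype

theorem exists_qTab {x : Perm (Fin 100)} (hx : x ∈ kerT) : ∃ i, x = perm (qTab i) := by
  obtain ⟨y, hy, rfl⟩ := hx
  obtain ⟨i, hi⟩ := qEl_surjective ⟨y, hy⟩
  exact ⟨i, (congrArg (fun q : psi5.ker => ((q : centG) : Perm (Fin 100))) hi).symm⟩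

theorem qTab_kerT (i : Fin 32) : perm (qTab i) ∈ kerT := ⟨_, (qEl i).2, rfl⟩

theorem orderOf_b0 : orderOf b0 = 2 := orderOf_eq_prime (by rw [sq, b0_sq]) b0_ne_one

theorem extraspecial_kerT : Cfsg.IsExtraspecial 2 kerT := by
  have h := chkExtra_ok
  simp only [chkExtra, Bool.and_eq_true, List.all_eq_true, List.any_eq_true, Bool.or_eq_true,
    Bool.not_eq_true'] at h
  obtain ⟨⟨hall, ib, hib, hb⟩, ia, hia, ja, hja, hne⟩ := h
  have hm := qTab_mem
  have two : ∀ i j : Fin 32, ∀ t ∈ [qTab i, qTab j] ++ [qTab j, qTab i], t ∈ tabs := fun i j =>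
    tabs_cons (hm i) (tabs_cons (hm j) (tabs_cons (hm j) (tabs_cons (hm i) tabs_nil)))
  have fin : ∀ i : Fin 32, i.1 ∈ List.range 32 := fun i => List.mem_range.2 i.2
  refine (LargeExtraspecial.isExtraspecial_of_props (z := b0) ?_ orderOf_b0 ?_ ?_ ?_ ?_ ?_ ?_).1
  · refine IsPGroup.of_card (n := 5) ?_
    rw [kerT, ← Nat.card_congr (psi5.ker.equivMapOfInjective _ centG.subtype_injective).toEquiv,
      range_psi5.2]
    norm_num
  · have e := (eqW_iff (tabs_cons (hm ⟨ib, List.mem_range.1 hib⟩) (tabs_cons b0_mem tabs_nil))).1 hb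
    have e' : perm (qTab ⟨ib, List.mem_range.1 hib⟩) = b0 := by simpa [qTab, b0] using e
    exact e' ▸ qTab_kerT _
  · rintro _ ⟨x, hx, rfl⟩
    obtain ⟨-, π, hπ⟩ := centG_spec x.2
    exact hπ.1
  · intro x hx
    obtain ⟨i, rfl⟩ := exists_qTab hx
    rcases (hall i (fin i)).1.1 with e | e
    · left
      simpa [qTab] using (eqW_iff (tabs_cons (hm i) (tabs_cons (hm i) tabs_nil))).1 e
    · right
      simpa [qTab, b0] using
        (eqW_iff (tabs_cons (hm i) (tabs_cons (hm i) (tabs_cons b0_mem tabs_nil)))).1 e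
  · intro x hx y hy
    obtain ⟨i, rfl⟩ := exists_qTab hx
    obtain ⟨j, rfl⟩ := exists_qTab hy
    rcases (hall i (fin i)).1.2 j (fin j) with e | e
    · left
      have e' : perm (qTab i) * perm (qTab j) = perm (qTab j) * perm (qTab i) := by
        simpa [qTab] using (eqW_iff (two i j)).1 e
      rw [e']; group
    · right
      have e' : perm (qTab i) * perm (qTab j) = b0 * (perm (qTab j) * perm (qTab i)) := by
        simpa [qTab, b0] using (eqW_iff (tabs_cons (hm i) (tabs_cons (hm j) (tabs_cons b0_mem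
          (tabs_cons (hm j) (tabs_cons (hm i) tabs_nil)))))).1 e
      rw [e']; group
  · intro x hx hcen
    obtain ⟨i, rfl⟩ := exists_qTab hx
    rcases (hall i (fin i)).2 with (e | e) | ⟨j, hj', e⟩
    · left
      simpa [qTab] using (eqW_iff (tabs_cons (hm i) tabs_nil)).1 e
    · right
      simpa [qTab, b0] using (eqW_iff (tabs_cons (hm i) (tabs_cons b0_mem tabs_nil))).1 e
    · exfalso
      have := (eqW_iff (two ⟨j, List.mem_range.1 hj'⟩ i)).2 (by
        simpa using hcen _ (qTab_kerT ⟨j, List.mem_range.1 hj'⟩))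
      exact Bool.false_ne_true (e.symm.trans this)
  · refine ⟨_, qTab_kerT ⟨ia, List.mem_range.1 hia⟩, _, qTab_kerT ⟨ja, List.mem_range.1 hja⟩,
      fun e => Bool.false_ne_true (hne.symm.trans ?_)⟩
    exact (eqW_iff (two _ _)).2 (by simpa using e)

/-- The structure of the centraliser. -/
theorem exists_structure {H : Type*} [Group H] (e : H ≃* centH) :
    ∃ (Q : Subgroup H) (_ : Q.Normal), Nat.card Q = 32 ∧ Cfsg.IsExtraspecial 2 Q ∧
      Nonempty (H ⧸ Q ≃* alternatingGroup (Fin 5)) := by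
  let e' : H ≃* centG := e.trans centEquiv.symm
  let ψ : H →* Perm (Fin 5) := psi5.comp e'.toMonoidHom
  have hker : ψ.ker = psi5.ker.map e'.symm.toMonoidHom := by
    ext x
    simp only [MonoidHom.mem_ker, Subgroup.mem_map_equiv, MulEquiv.symm_symm, ψ,
      MonoidHom.comp_apply, MulEquiv.coe_toMonoidHom]
  let i1 : psi5.ker ≃* ψ.ker :=
    (psi5.ker.equivMapOfInjective _ e'.symm.injective).trans (MulEquiv.subgroupCongr hker.symm)
  let i2 : psi5.ker ≃* kerT := psi5.ker.equivMapOfInjective _ centG.subtype_injective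
  refine ⟨ψ.ker, inferInstance, ?_, ?_, ⟨?_⟩⟩
  · rw [← Nat.card_congr i1.toEquiv, range_psi5.2]
  · exact LargeExtraspecial.isExtraspecial_of_mulEquiv (i2.symm.trans i1) extraspecial_kerT
  · refine (QuotientGroup.quotientKerEquivRange ψ).trans (MulEquiv.subgroupCongr ?_)
    rw [← range_psi5.1, MonoidHom.range_comp, MonoidHom.range_eq_top.2 e'.surjective,
      ← MonoidHom.range_eq_map]

end CfsgLib.J2Cent
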