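import Cfsg.Agent.J2Cent.Extra
import Cfsg.Agent.JankoTwoThree.J2Action

/-!
# Reflection centralisers of the Hall–Janko group inside the permutation model
-/

set_option autoImplicit false

noncomputable section

namespace CfsgLib.J2Cent

open Cfsg.Spor Cfsg.IcoLeech CfsgLib.Mathieu
open CfsgLib.Mathieu.HallJanko (hj)

theorem equivHJ_mk (x : twoJ2) :
    ((J2.equivHJ (QuotientGroup.mk x) : hj) : Equiv.Perm (Fin 100)) = J2.act x := rfl

theorem blockPerm_zero : J2.blockPerm 0 = b0 := by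
  have h : CfsgLib.J2.blockTabs.getD 0 0 = Data.cls.getD 0 0 := by decide +kernel
  have r : Rep (Equiv.refl (Fin 100)) (J2.blockPerm 0) (CfsgLib.J2.blockTabs.getD 0 0) := fun k => rfl
  rw [h] at r
  exact eq_perm r

theorem equivHJ_tgen_zero : J2.equivHJ (QuotientGroup.mk (J2.tgen 0)) = bh :=
  Subtype.ext ((equivHJ_mk _).trans ((J2.act_tgen 0).trans blockPerm_zero))

/-- An isomorphism carries a centraliser to the centraliser of the image. -/
def centralizerCongr {G H : Type*} [Group G] [Group H] (e : G ≃* H) {x : G} {y : H} (h : e x = y) :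
    Subgroup.centralizer {x} ≃* Subgroup.centralizer {y} :=
  (e.subgroupMap _).trans (MulEquiv.subgroupCongr (by
    subst h
    ext z
    rw [Subgroup.mem_map]
    simp only [Subgroup.mem_centralizer_iff, Set.mem_singleton_iff, forall_eq]
    refine ⟨?_, fun hz => ⟨e.symm z, ?_, e.apply_symm_apply z⟩⟩
    · rintro ⟨w, hw, rfl⟩
      show e x * e w = e w * e x
      rw [← map_mul, ← map_mul, hw]
    · apply e.injective
      rw [map_mul, map_mul, e.apply_symm_apply, hz]))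

theorem exists_conj_tgen {f : Equiv.Perm icoLeech} (hf : IsIcoReflection f) (hfm : f ∈ twoJ2) :
    ∃ u : Cfsg.Spor.J2,
      MulAut.conj u (QuotientGroup.mk ⟨f, hfm⟩) = QuotientGroup.mk (J2.tgen 0) := by
  obtain ⟨i, rfl⟩ := J2.exists_R hf
  obtain ⟨g, hg, e⟩ := exists_conj_lineRefl ⟨lineAt i, lineAt_mem i.2⟩
    ⟨lineAt (J2.gIdx 0), lineAt_mem (J2.gIdx 0).2⟩
  have e' : (⟨g, hg⟩ * ⟨J2.R i, hfm⟩ * ⟨g, hg⟩⁻¹ : twoJ2) = J2.tgen 0 := Subtype.ext e
  exact ⟨QuotientGroup.mk ⟨g, hg⟩, congrArg QuotientGroup.mk e'⟩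

theorem exists_equiv_centH {f : Equiv.Perm icoLeech} (hf : IsIcoReflection f) (hfm : f ∈ twoJ2) :
    Nonempty (Subgroup.centralizer {(QuotientGroup.mk ⟨f, hfm⟩ : Cfsg.Spor.J2)} ≃* centH) := by
  obtain ⟨u, hu⟩ := exists_conj_tgen hf hfm
  exact ⟨centralizerCongr ((MulAut.conj u).trans J2.equivHJ)
    ((congrArg J2.equivHJ hu).trans equivHJ_tgen_zero)⟩

end CfsgLib.J2Cent

end
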