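import Cfsg.Agent.J2Cent.PSUTab

/-! Blocks 0 to 3 of the table check. -/

set_option autoImplicit false
set_option maxRecDepth 20000

namespace CfsgLib.J2Cent.PSU

theorem block_0 : block 0 = true := by decide +kernel

theorem block_1 : block 1 = true := by decide +kernel

theorem block_2 : block 2 = true := by decide +kernel

theorem block_3 : block 3 = true := by decide +kernel

end CfsgLib.J2Cent.PSU
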