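import Cfsg.Agent.J2Cent.PSUTab

/-! Blocks 4 to 7 of the table check. -/

set_option autoImplicit false
set_option maxRecDepth 20000

namespace CfsgLib.J2Cent.PSU

theorem block_4 : block 4 = true := by decide +kernel

theorem block_5 : block 5 = true := by decide +kernel

theorem block_6 : block 6 = true := by decide +kernel

theorem block_7 : block 7 = true := by decide +kernel

end CfsgLib.J2Cent.PSU
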