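import Cfsg.Agent.J2Cent.PSUTab

/-! Blocks 8 to 11 of the table check. -/

set_option autoImplicit false
set_option maxRecDepth 20000

namespace CfsgLib.J2Cent.PSU

theorem block_8 : block 8 = true := by decide +kernel

theorem block_9 : block 9 = true := by decide +kernel

theorem block_10 : block 10 = true := by decide +kernel

theorem block_11 : block 11 = true := by decide +kernel

end CfsgLib.J2Cent.PSU
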