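import Cfsg.Agent.J2Cent.Cent
import Cfsg.Agent.J2Cent.PSUTabA
import Cfsg.Agent.J2Cent.PSUTabB
import Cfsg.Agent.J2Cent.PSUTabC
import Cfsg.Agent.Forms4.UnitaryCenter

/-!
# The point stabiliser of the Hall–Janko group is `PSU₃(3)`
-/

set_option autoImplicit false
set_option maxRecDepth 20000

noncomputable section

namespace CfsgLib.J2Cent.PSU

open CfsgLib.Mathieu CfsgLib.Mathieu.HallJanko CfsgLib.J2Cent
open CfsgLib.ChevSimple.Two (Tab digit pack digit_lt digit_pack eq_of_digit_eq get2)
open CfsgLib.ChevSimple.Two.G2 (imgA imgB)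
open scoped Matrix
open Equiv (Perm)

theorem su_facts : ChevSimple.Two.SUThree.mat (get2 tab.h 0) = 1 ∧
    (ChevSimple.Two.SUThree.mat imgA).det = 1 ∧ (ChevSimple.Two.SUThree.mat imgB).det = 1 ∧
    (ChevSimple.Two.SUThree.mat imgA)ᵀ * (ChevSimple.Two.SUThree.mat imgA).map (fun x => x * x * x) = 1 ∧
    (ChevSimple.Two.SUThree.mat imgB)ᵀ * (ChevSimple.Two.SUThree.mat imgB).map (fun x => x * x * x) = 1 := by
  simp only [← Matrix.ext_iff, Matrix.det_fin_three, QuadraticAlgebra.ext_iff]
  decide +kernel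

theorem tab_good : tab.Good (2 ^ 216) (9 ^ 9) mgP ChevSimple.Two.SUThree.mulH genA genB imgA imgB :=
  Tab.good_of_ranges 504 12 le_rfl (by norm_num) fun j hj => by
    interval_cases j
    exacts [block_0, block_1, block_2, block_3, block_4, block_5, block_6, block_7, block_8,
      block_9, block_10, block_11]

/-- A code as a self-map of sixty-four points that moves only the first thirty-six. -/
def dG (K : ℕ) : Function.End (Fin 64) :=
  fun a => if a.1 < 36 then ⟨digit 6 K a, digit_lt 6 K a⟩ else a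

theorem dG_mgP (K L : ℕ) (hL : ∀ a < 36, digit 6 L a < 36) : dG (mgP K L) = dG K * dG L := by
  funext a
  show dG (mgP K L) a = dG K (dG L a)
  by_cases h : a.1 < 36
  · simp only [dG, h, if_true, hL _ h]
    refine Fin.ext ?_
    show digit 6 (mgP K L) a = digit 6 K (digit 6 L a)
    rw [mgP, digit_pack _ _ _ _ h, Nat.mod_eq_of_lt (digit_lt _ _ _)]
  · simp only [dG, h, if_false]

theorem dG_inj {K L : ℕ} (hK : K < 2 ^ 216) (hL : L < 2 ^ 216) (h : dG K = dG L) : K = L := by
  refine eq_of_digit_eq 6 36 K L hK hL fun a ha => ?_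
  have := congrFun h ⟨a, by omega⟩
  simp only [dG, ha, if_true] at this
  exact congrArg Fin.val this

theorem dG_one : dG (get2 tG 0) = 1 := by
  have h : ∀ a < 36, digit 6 (get2 tG 0) a = a := by decide +kernel
  funext a
  show dG (get2 tG 0) a = a
  by_cases ha : a.1 < 36
  · simp only [dG, ha, if_true]; exact Fin.ext (h _ ha)
  · simp only [dG, ha, if_false]

/-- The short orbit of the stabiliser. -/
def InShort (x : Fin 100) : Prop := 1 ≤ x.1 ∧ x.1 ≤ 36

/-- Members of `hj` fixing the first point and preserving the short orbit. -/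
def S0 : Subgroup (Perm (Fin 100)) where
  carrier := {g | g ∈ hj ∧ g 0 = 0 ∧ ∀ x, InShort (g x) ↔ InShort x}
  one_mem' := ⟨one_mem _, rfl, fun _ => Iff.rfl⟩
  mul_mem' := by
    rintro a b ⟨ha, ha0, hai⟩ ⟨hb, hb0, hbi⟩
    exact ⟨mul_mem ha hb, by rw [Perm.mul_apply, hb0, ha0],
      fun x => by rw [Perm.mul_apply]; exact (hai _).trans (hbi x)⟩
  inv_mem' := by
    rintro a ⟨ha, ha0, hai⟩
    exact ⟨inv_mem ha, (Equiv.symm_apply_eq a).2 ha0.symm,
      fun x => by rw [← hai, perm_apply_inv]⟩

/-- The point of the short orbit in a given position. -/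
def pt (a : Fin 64) : Fin 100 := ⟨a.1 + 1, by omega⟩

theorem image_lt (g : S0) {a : Fin 64} (h : a.1 < 36) :
    1 ≤ ((g : Perm (Fin 100)) (pt a)).1 ∧ ((g : Perm (Fin 100)) (pt a)).1 ≤ 36 :=
  (g.2.2.2 (pt a)).2 ⟨Nat.le_add_left 1 a.1, h⟩

/-- The map of the short orbit. -/
def restrFun (g : S0) : Function.End (Fin 64) := fun a => if h : a.1 < 36 then
  ⟨((g : Perm (Fin 100)) (pt a)).1 - 1, by have := image_lt g h; omega⟩ else a

theorem restrFun_apply (g : S0) {a : Fin 64} (h : a.1 < 36) :
    (restrFun g a).1 = ((g : Perm (Fin 100)) (pt a)).1 - 1 := by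
  simp [restrFun, h]

theorem restrFun_ge (g : S0) {a : Fin 64} (h : ¬ a.1 < 36) : restrFun g a = a := by
  simp [restrFun, h]

/-- The action on the short orbit. -/
def restr : S0 →* Function.End (Fin 64) where
  toFun := restrFun
  map_one' := funext fun a => by
    show restrFun 1 a = a
    by_cases h : a.1 < 36
    · refine Fin.ext ?_
      rw [restrFun_apply _ h]
      exact Nat.add_sub_cancel a.1 1
    · exact restrFun_ge _ h
  map_mul' g g' := funext fun a => by
    show restrFun (g * g') a = restrFun g (restrFun g' a)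
    by_cases h : a.1 < 36
    · have h' := image_lt g' h
      have hv := restrFun_apply g' h
      have hlt : (restrFun g' a).1 < 36 := by omega
      have hp : pt (restrFun g' a) = (g' : Perm (Fin 100)) (pt a) :=
        Fin.ext (by show (restrFun g' a).1 + 1 = _; omega)
      refine Fin.ext ?_
      rw [restrFun_apply _ h, restrFun_apply _ hlt, hp]
      rfl
    · rw [restrFun_ge _ h, restrFun_ge _ h, restrFun_ge _ h]

theorem restr_apply (g : S0) {a : Fin 64} (h : a.1 < 36) :
    (restr g a).1 = ((g : Perm (Fin 100)) (pt a)).1 - 1 := restrFun_apply g h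

theorem eq_one_of_fix {g : Perm (Fin 100)} (hg : g ∈ hj)
    (hfix : ∀ b ∈ [0, 1, 2, 3, 5], ∀ hb : b < 100, g ⟨b, hb⟩ = ⟨b, hb⟩) : g = 1 := by
  have hb : chain.map Schreier.Level.base = [0, 1, 2, 3, 5] := by decide +kernel
  rw [← hb] at hfix
  have key : ∀ C : List Schreier.Level, Schreier.chainOK 100 C = true → Schreier.HasPerms 100 C →
      g ∈ Schreier.group 100 C →
      (∀ b ∈ C.map Schreier.Level.base, ∀ hb : b < 100, g ⟨b, hb⟩ = ⟨b, hb⟩) → g = 1 := by
    intro C
    induction C with
    | nil =>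
      intro _ _ h _
      simpa [Schreier.group, Schreier.topGens] using h
    | cons L rest ih =>
      intro hok hp h hf
      have hok' := hok
      simp only [Schreier.chainOK, Bool.and_eq_true, decide_eq_true_eq] at hok'
      have hlt : L.base < 100 := hok'.1.1.1.1.1.1
      refine ih hok'.2 hp.2 ((Schreier.mem_tail_iff hok hp hlt).2 ⟨h, hf _ (by simp) hlt⟩)
        fun b hb => hf b (by simp [hb])
  exact key chain chain_ok chain_perms hg hfix

theorem restr_injective : Function.Injective restr := by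
  refine (injective_iff_map_eq_one restr).2 fun g hg => Subtype.ext ?_
  refine eq_one_of_fix g.2.1 fun b hb hb100 => ?_
  by_cases h0 : b = 0
  · subst h0; exact g.2.2.1
  · have hb36 : 1 ≤ b ∧ b ≤ 36 := by simp at hb; omega
    have h : (⟨b - 1, by omega⟩ : Fin 64).1 < 36 := by show b - 1 < 36; omega
    have e := (restr_apply g h).symm.trans (congrArg Fin.val (congrFun hg _))
    have hi := image_lt g h
    have hp : pt ⟨b - 1, by omega⟩ = ⟨b, hb100⟩ := Fin.ext (by show b - 1 + 1 = b; omega)
    rw [hp] at e hi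
    have hx : ((1 : Function.End (Fin 64)) ⟨b - 1, by omega⟩).1 = b - 1 := rfl
    refine Fin.ext ?_
    show ((g : Perm (Fin 100)) ⟨b, hb100⟩).1 = b
    omega

/-- The generator with a given index. -/
def gen (i : ℕ) : Perm (Fin 100) := perm ((genPairs.map Prod.fst).getD i 0)

theorem gen_facts {i : ℕ} (hi : i < 2) :
    gen i ∈ S0 ∧ ∀ a < 36, ((gen i) ⟨(a + 1) % 100, Nat.mod_lt _ (by norm_num)⟩).1 =
      digit 6 ([genA, genB].getD i 0) a + 1 := by
  have hlen : genPairs.length = 2 := by decide +kernel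
  have hok : Schreier.gensOK 100 genPairs = true := by decide +kernel
  set t := (genPairs.map Prod.fst).getD i 0 with ht
  have hmem : t ∈ genPairs.map Prod.fst := by
    rw [ht, List.getD_eq_getElem _ _ (by rw [List.length_map, hlen]; exact hi)]
    exact List.getElem_mem _
  have r := rep_perm (Schreier.exists_rep_of_gensOK hok t hmem)
  have happ : ∀ x : Fin 100, ((gen i) x).1 = app t x.1 := fun x => (r x).symm
  have hall : ∀ i < 2, Schreier.sift 100 chain [(genPairs.map Prod.fst).getD i 0] = true ∧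
      app ((genPairs.map Prod.fst).getD i 0) 0 = 0 ∧
      (∀ x < 100, (decide (1 ≤ app ((genPairs.map Prod.fst).getD i 0) x) &&
        decide (app ((genPairs.map Prod.fst).getD i 0) x ≤ 36)) = (decide (1 ≤ x) && decide (x ≤ 36))) ∧
      ∀ a < 36, app ((genPairs.map Prod.fst).getD i 0) (a + 1) =
        digit 6 ([genA, genB].getD i 0) a + 1 := by decide +kernel
  obtain ⟨hs, h0, hi', ha⟩ := hall i hi
  refine ⟨⟨?_, ?_, fun x => ?_⟩, fun a h => ?_⟩
  · have := (Schreier.sift_sound chain (Schreier.levelSpec_of_ok _ chain_ok chain_perms) [t]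
      [gen i] (.cons r .nil) hs).1
    simpa [hj] using this
  · exact Fin.ext ((happ 0).trans h0)
  · have h := hi' x.1 x.2
    rw [← Bool.decide_and, ← Bool.decide_and, decide_eq_decide] at h
    simp only [InShort, happ]
    exact h
  · rw [happ]
    show app t ((a + 1) % 100) = _
    rw [Nat.mod_eq_of_lt (by omega : a + 1 < 100)]
    exact ha a h

theorem restr_gen {i : ℕ} (hi : i < 2) :
    restr ⟨gen i, (gen_facts hi).1⟩ = dG ([genA, genB].getD i 0) := by
  funext a
  by_cases h : a.1 < 36
  · refine Fin.ext ?_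
    have e := (gen_facts hi).2 a h
    simp only [dG, h, if_true]
    rw [restr_apply _ h]
    simp only [Nat.mod_eq_of_lt (by omega : a.1 + 1 < 100)] at e
    show ((gen i) ⟨a.1 + 1, _⟩).1 - 1 = _
    omega
  · simp only [dG, h, if_false]
    exact restrFun_ge _ h

/-- The point stabiliser in `hj`. -/
def stab : Subgroup hj := MulAction.stabilizer hj (0 : Fin 100)

theorem index_stab : stab.index = 100 := by
  haveI := hj_isPretransitive
  rw [stab, MulAction.index_stabilizer_of_transitive, Nat.card_fin]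

theorem card_stab : Nat.card stab = 6048 := by
  have h := stab.card_mul_index
  rw [index_stab, card_hj] at h
  omega

/-- `S0` inside the stabiliser. -/
def toStab : S0 →* stab where
  toFun g := ⟨⟨g.1, g.2.1⟩, g.2.2.1⟩
  map_one' := rfl
  map_mul' _ _ := rfl

theorem toStab_injective : Function.Injective toStab :=
  fun _ _ h => Subtype.ext (congrArg (fun x : stab => x.1.1) h)

theorem stab_structure {K : Type} [Field K] [Fintype K] (hK : Fintype.card K = 9) :
    Nonempty (stab ≃* Cfsg.PSU 3 K 3) ∧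
      ∀ g : stab, ∀ x, InShort ((g.1.1) x) ↔ InShort x := by
  obtain ⟨hs0, hdA, hdB, hUA, hUB⟩ := su_facts
  let e : Linear.GF9 ≃+* K :=
    FiniteField.ringEquivOfCardEq (Linear.card_gf9.trans hK.symm)
  have hK' : Fintype.card K = 3 ^ 2 := hK
  obtain ⟨ya, hya⟩ := ChevSimple.Two.SUThree.exists_mem_SU e hK' imgA hdA hUA
  obtain ⟨yb, hyb⟩ := ChevSimple.Two.SUThree.exists_mem_SU e hK' imgB hdB hUB
  let rH : ↥(Cfsg.SU 3 K 3) →* Matrix (Fin 3) (Fin 3) K :=
    { toFun := fun g => g.1.1, map_one' := rfl, map_mul' := fun _ _ => rfl }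
  have hlt : ∀ L ∈ [genA, genB], ∀ a < 36, digit 6 L a < 36 := by decide +kernel
  obtain ⟨hcard, ⟨eqv⟩, -⟩ := Tab.exists_equiv tab_good (G := S0) (H := ↥(Cfsg.SU 3 K 3))
    restr restr_injective rH (fun g g' h => Subtype.ext (Subtype.ext h))
    dG (fun c => (ChevSimple.Two.SUThree.mat c).map e) (fun K L hL => dG_mgP K L (hlt L hL))
    (fun K _ L _ => by rw [ChevSimple.Two.SUThree.mat_mulH, Matrix.map_mul])
    (fun K L hK hL => dG_inj hK hL)
    (fun K L hK hL h => ChevSimple.Two.SUThree.mat_inj K L hK hL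
      (Matrix.map_injective e.injective h))
    (by decide) dG_one
    (by
      show (ChevSimple.Two.SUThree.mat (get2 tab.h 0)).map e = 1
      rw [hs0, Matrix.map_one _ (map_zero e) (map_one e)])
    ⟨gen 0, (gen_facts (by norm_num)).1⟩ ⟨gen 1, (gen_facts (by norm_num)).1⟩ ya yb
    (restr_gen (by norm_num)) (restr_gen (by norm_num)) hya hyb
  have hc : Nat.card (Subgroup.closure {ya, yb}) = Nat.card (Cfsg.SU 3 K 3) := by
    rw [hcard, ChevSimple.Two.SUThree.card_SU_three hK']; rfl
  have htop : Subgroup.closure {ya, yb} = ⊤ := Subgroup.eq_top_of_card_eq _ hc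
  set P := Subgroup.closure ({⟨gen 0, (gen_facts (by norm_num)).1⟩,
    ⟨gen 1, (gen_facts (by norm_num)).1⟩} : Set S0) with hP
  let ψ : P →* stab := toStab.comp P.subtype
  have hψ : Function.Injective ψ := toStab_injective.comp P.subtype_injective
  have hbij : Function.Bijective ψ := by
    rw [Nat.bijective_iff_injective_and_card]
    refine ⟨hψ, ?_⟩
    rw [Nat.card_congr eqv.toEquiv, hcard, card_stab]
    rfl
  have hz : Subgroup.center ↥(Cfsg.SU 3 K 3) = ⊥ :=
    Subgroup.eq_bot_of_card_eq _ (by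
      rw [Forms4.card_center_SU hK' (by norm_num)]; rfl)
  refine ⟨⟨(MulEquiv.ofBijective ψ hbij).symm.trans
    (((eqv.trans (MulEquiv.subgroupCongr htop)).trans Subgroup.topEquiv).trans
      (QuotientGroup.quotientBot.symm.trans (QuotientGroup.quotientMulEquivOfEq hz.symm)))⟩,
    fun g x => ?_⟩
  obtain ⟨p, rfl⟩ := hbij.2 g
  exact p.1.2.2.2 x

end CfsgLib.J2Cent.PSU

end
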