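import Cfsg.Agent.J2Cent.PSU
import Cfsg.Agent.JankoTwoThree.J2Action

/-!
# The subgroup of index 100 in the Hall–Janko group
-/

set_option autoImplicit false

noncomputable section

namespace CfsgLib.J2Cent.PSU

open CfsgLib.Mathieu CfsgLib.Mathieu.HallJanko

/-- The subgroup of `J₂` matching the point stabiliser. -/
def stabJ2 : Subgroup Cfsg.Spor.J2 := stab.comap J2.equivHJ.toMonoidHom

theorem index_stabJ2 : stabJ2.index = 100 := by
  rw [stabJ2, Subgroup.index_comap_of_surjective _ J2.equivHJ.surjective, index_stab]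

/-- The isomorphism with the point stabiliser. -/
def stabEquiv : stabJ2 ≃* stab where
  toFun x := ⟨J2.equivHJ x.1, x.2⟩
  invFun x := ⟨J2.equivHJ.symm x.1, by
    show J2.equivHJ (J2.equivHJ.symm x.1) ∈ stab
    rw [MulEquiv.apply_symm_apply]; exact x.2⟩
  left_inv x := Subtype.ext (J2.equivHJ.symm_apply_apply _)
  right_inv x := Subtype.ext (J2.equivHJ.apply_symm_apply _)
  map_mul' x y := Subtype.ext (map_mul J2.equivHJ x.1 y.1)

/-- The point of a coset. -/
def point : Cfsg.Spor.J2 ⧸ stabJ2 → Fin 100 :=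
  Quotient.lift (fun x => J2.equivHJ x • (0 : Fin 100)) fun x y h => by
    have h' : J2.equivHJ (x⁻¹ * y) • (0 : Fin 100) = 0 := QuotientGroup.leftRel_apply.1 h
    rw [map_mul, map_inv, mul_smul, inv_smul_eq_iff] at h'
    exact h'.symm

theorem point_injective : Function.Injective point := by
  intro c d h
  induction c using QuotientGroup.induction_on with
  | _ x =>
    induction d using QuotientGroup.induction_on with
    | _ y =>
      refine QuotientGroup.eq.2 ?_
      show J2.equivHJ (x⁻¹ * y) • (0 : Fin 100) = 0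
      rw [map_mul, map_inv, mul_smul, inv_smul_eq_iff]
      exact h.symm

theorem point_smul (h : stabJ2) (c : Cfsg.Spor.J2 ⧸ stabJ2) :
    point (h • c) = (stabEquiv h).1 • point c := by
  induction c using QuotientGroup.induction_on with
  | _ x =>
    show J2.equivHJ (h.1 * x) • (0 : Fin 100) = J2.equivHJ h.1 • (J2.equivHJ x • 0)
    rw [map_mul, mul_smul]

theorem exists_point (v : Fin 100) : ∃ c, point c = v := by
  haveI := hj_isPretransitive
  obtain ⟨g, hg⟩ := MulAction.exists_smul_eq hj (0 : Fin 100) v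
  refine ⟨QuotientGroup.mk (J2.equivHJ.symm g), ?_⟩
  show J2.equivHJ (J2.equivHJ.symm g) • (0 : Fin 100) = v
  rw [MulEquiv.apply_symm_apply, hg]

theorem image_orbit (c : Cfsg.Spor.J2 ⧸ stabJ2) :
    point '' MulAction.orbit stabJ2 c = MulAction.orbit stab (point c) := by
  ext v
  constructor
  · rintro ⟨_, ⟨h, rfl⟩, rfl⟩
    exact ⟨stabEquiv h, (point_smul h c).symm⟩
  · rintro ⟨g, rfl⟩
    refine ⟨_, ⟨stabEquiv.symm g, rfl⟩, ?_⟩
    rw [point_smul, MulEquiv.apply_symm_apply]
    rfl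

theorem orbit_short (h : ∀ g : stab, ∀ x, InShort ((g.1.1) x) ↔ InShort x) {v : Fin 100}
    (hv : InShort v) : MulAction.orbit stab v = {x | InShort x} := by
  ext x
  constructor
  · rintro ⟨g, rfl⟩
    exact (h g v).2 hv
  · intro hx
    obtain ⟨σ, hσ, h0, hu⟩ := stabilizer_orbits.1 v x hv.1 hv.2 hx.1 hx.2
    exact ⟨⟨⟨σ, hσ⟩, h0⟩, hu⟩

theorem orbit_long (h : ∀ g : stab, ∀ x, InShort ((g.1.1) x) ↔ InShort x) {v : Fin 100}
    (hv : 37 ≤ v.1) : MulAction.orbit stab v = {x | 37 ≤ x.1} := by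
  ext x
  constructor
  · rintro ⟨g, rfl⟩
    show 37 ≤ ((g.1.1) v).1
    have h1 : ¬ InShort ((g.1.1) v) := fun hh => by
      have := ((h g v).1 hh).2; omega
    have h2 : ((g.1.1) v).1 ≠ 0 := fun e => by
      have e' : (g.1.1) v = 0 := Fin.ext e
      have h0 : (g.1.1) 0 = 0 := g.2
      have := congrArg Fin.val (g.1.1.injective (e'.trans h0.symm))
      simp at this
      omega
    simp only [InShort] at h1
    omega
  · intro hx
    obtain ⟨σ, hσ, h0, hu⟩ := stabilizer_orbits.2 v x hv hx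
    exact ⟨⟨⟨σ, hσ⟩, h0⟩, hu⟩

theorem ncard_orbit (c : Cfsg.Spor.J2 ⧸ stabJ2) :
    (MulAction.orbit stabJ2 c).ncard = (MulAction.orbit stab (point c)).ncard := by
  rw [← image_orbit, Set.ncard_image_of_injective _ point_injective]

theorem exists_index_hundred :
    ∃ H : Subgroup Cfsg.Spor.J2, H.index = 100 ∧
      (∃ (F : Type) (_ : Field F) (_ : Fintype F), Fintype.card F = 9 ∧
        Nonempty (↥H ≃* Cfsg.PSU 3 F 3)) ∧
      ∃ c₁ c₂ : Cfsg.Spor.J2 ⧸ H, (MulAction.orbit ↥H c₁).ncard = 36 ∧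
        (MulAction.orbit ↥H c₂).ncard = 63 := by
  obtain ⟨⟨e⟩, hpres⟩ := stab_structure (K := Linear.GF9) Linear.card_gf9
  refine ⟨stabJ2, index_stabJ2, ⟨_, inferInstance, inferInstance, Linear.card_gf9, ⟨stabEquiv.trans e⟩⟩,
    ?_⟩
  obtain ⟨c₁, h₁⟩ := exists_point 1
  obtain ⟨c₂, h₂⟩ := exists_point 37
  refine ⟨c₁, c₂, ?_, ?_⟩
  · rw [ncard_orbit, h₁, orbit_short hpres ⟨le_refl 1, by decide⟩,
      show {x : Fin 100 | InShort x} =
        ↑(Finset.univ.filter fun x : Fin 100 => 1 ≤ x.1 ∧ x.1 ≤ 36) from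
        Set.ext fun x => by simp [InShort], Set.ncard_coe_finset]
    decide +kernel
  · rw [ncard_orbit, h₂, orbit_long hpres (le_refl 37),
      show {x : Fin 100 | 37 ≤ x.1} = ↑(Finset.univ.filter fun x : Fin 100 => 37 ≤ x.1) from
        Set.ext fun x => by simp, Set.ncard_coe_finset]
    decide +kernel

end CfsgLib.J2Cent.PSU

end
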