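import Cfsg.Agent.ChevSimple.Two.TabG2
import Cfsg.Agent.J2Cent.PSUData

/-!
# The table for the point stabiliser in the Hall–Janko group and `SU₃(3)`
-/

set_option autoImplicit false
set_option maxRecDepth 20000

namespace CfsgLib.J2Cent.PSU

open CfsgLib.ChevSimple.Two (Tab digit pack SUThree.mulH)

/-- Composition of packed maps of thirty-six points. -/
def mgP (K L : ℕ) : ℕ := pack 6 (fun a => digit 6 K (digit 6 L a)) 36

/-- The table. -/
def tab : Tab where
  size := 6048
  g := tG
  h := CfsgLib.ChevSimple.Two.G2.tH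
  na := CfsgLib.ChevSimple.Two.G2.tA
  nb := CfsgLib.ChevSimple.Two.G2.tB
  par := CfsgLib.ChevSimple.Two.G2.tP
  sg := tSG
  sh := CfsgLib.ChevSimple.Two.G2.tSH

/-- The check on the `j`-th block of 504 entries. -/
def block (j : ℕ) : Bool :=
  tab.chkRange (2 ^ 216) (9 ^ 9) mgP SUThree.mulH genA genB
    CfsgLib.ChevSimple.Two.G2.imgA CfsgLib.ChevSimple.Two.G2.imgB
    (504 * j) (min 504 (tab.size - 504 * j))

end CfsgLib.J2Cent.PSU
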