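import Cfsg.Agent.J2Cent.Cent
import Cfsg.Agent.LargeExtraspecial.Quotient
import Cfsg.Agent.LargeExtraspecial.Simplicity
import Mathlib.GroupTheory.SpecificGroups.Alternating

/-! The centraliser of the involution is an extension of `2^(1+4)` by `A₅`. -/

set_option autoImplicit false
set_option maxRecDepth 100000

noncomputable section

namespace CfsgLib.J2Cent

open CfsgLib.Mathieu CfsgLib.Mathieu.HallJanko Data
open Equiv (Perm)

theorem cChain_ok : Schreier.chainOK 100 cChain = true := by decide +kernel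

theorem cGens_ok : (cLevel0.gens.all fun g => cGens.contains g) = true ∧
    (cLevel1.gens.all fun g => cGens.contains g) = true := by decide +kernel

theorem cLevel_mem {t : ℕ} (h : t ∈ cLevel0.gens) : t ∈ cGens :=
  List.contains_iff_mem.1 (List.all_eq_true.1 cGens_ok.1 t h)

theorem cChain_perms : Schreier.HasPerms 100 cChain :=
  ⟨fun _ hg => ⟨_, rep_tabs (c_mem (cLevel_mem hg))⟩,
    fun g hg => ⟨_, rep_tabs (c_mem (List.contains_iff_mem.1 (List.all_eq_true.1 cGens_ok.2 g hg)))⟩,
    trivial⟩

/-- The centraliser as a group of permutations. -/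
def centG : Subgroup (Perm (Fin 100)) := Schreier.group 100 cChain

theorem card_centG : Nat.card centG = 1920 := by
  rw [centG, Schreier.card_group _ cChain_ok cChain_perms]
  decide +kernel

/-- The pairs of commuting members of the class. -/
def aInv (k : Fin 5) : Perm (Fin 100) := perm (pairTabs.getD k 0)

/-- The permutations of the pairs. -/
def piGen : Fin 3 → Perm (Fin 5) :=
  ![⟨![1, 3, 2, 0, 4], ![3, 0, 2, 1, 4], by decide, by decide⟩,
    ⟨![4, 1, 2, 0, 3], ![3, 1, 2, 4, 0], by decide, by decide⟩,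
    ⟨![2, 1, 3, 0, 4], ![3, 1, 0, 2, 4], by decide, by decide⟩]

/-- The checks on the generators. -/
def chkGens : Bool :=
  (List.range 3).all fun j =>
    Schreier.sift 100 chain [cGens.getD j 0] &&
    (allBelow 100 fun x => Schreier.evalWord [cGens.getD j 0, cls.getD 0 0] x ==
      Schreier.evalWord [cls.getD 0 0, cGens.getD j 0] x) &&
    (List.range 5).all fun k =>
      (allBelow 100 fun x => Schreier.evalWord [cGens.getD j 0, pairTabs.getD k 0] x ==
        Schreier.evalWord [pairTabs.getD (piGen (Fin.ofNat 3 j) (Fin.ofNat 5 k)).1 0, cGens.getD j 0] x) ||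
      (allBelow 100 fun x => Schreier.evalWord [cGens.getD j 0, pairTabs.getD k 0] x ==
        Schreier.evalWord [pairTabs.getD (piGen (Fin.ofNat 3 j) (Fin.ofNat 5 k)).1 0, cls.getD 0 0,
          cGens.getD j 0] x)

theorem chkGens_ok : chkGens = true := by decide +kernel

/-- The facts on the involution and the pairs. -/
def chkPairs : Bool :=
  (allBelow 100 fun x => Schreier.evalWord [cls.getD 0 0, cls.getD 0 0] x == x) &&
  (!(allBelow 100 fun x => Schreier.evalWord [cls.getD 0 0] x == x)) &&
  (List.range 5).all fun k =>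
    (allBelow 100 fun x => Schreier.evalWord [pairTabs.getD k 0, cls.getD 0 0] x ==
      Schreier.evalWord [cls.getD 0 0, pairTabs.getD k 0] x) &&
    (List.range 5).all fun l => k == l ||
      (!(allBelow 100 fun x => Schreier.evalWord [pairTabs.getD k 0] x ==
        Schreier.evalWord [pairTabs.getD l 0] x) &&
      !(allBelow 100 fun x => Schreier.evalWord [pairTabs.getD k 0] x ==
        Schreier.evalWord [pairTabs.getD l 0, cls.getD 0 0] x))

theorem chkPairs_ok : chkPairs = true := by decide +kernel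

theorem cGens_getD_mem {j : ℕ} (h : j < 3) : cGens.getD j 0 ∈ tabs := by
  refine c_mem ?_
  rw [List.getD_eq_getElem _ _ (by rw [show cGens.length = 3 from by decide +kernel]; exact h)]
  exact List.getElem_mem _

theorem pair_getD_mem {k : ℕ} (h : k < 5) : pairTabs.getD k 0 ∈ tabs := by
  refine pair_mem ?_
  rw [List.getD_eq_getElem _ _ (by rw [show pairTabs.length = 5 from by decide +kernel]; exact h)]
  exact List.getElem_mem _

theorem tabs_cons {a : ℕ} {l : List ℕ} (ha : a ∈ tabs) (hl : ∀ t ∈ l, t ∈ tabs) :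
    ∀ t ∈ a :: l, t ∈ tabs := List.forall_mem_cons.2 ⟨ha, hl⟩

theorem tabs_nil : ∀ t ∈ ([] : List ℕ), t ∈ tabs := fun _ h => absurd h List.not_mem_nil

/-- An equation of words. -/
theorem word_eq {w w' : List ℕ} (hw : ∀ t ∈ w ++ w', t ∈ tabs)
    (h : allBelow 100 (fun x => Schreier.evalWord w x == Schreier.evalWord w' x) = true) :
    (w.map perm).prod = (w'.map perm).prod :=
  prod_eq (fun t ht => hw t (List.mem_append_left _ ht)) (fun t ht => hw t (List.mem_append_right _ ht)) h

theorem b0_sq : b0 * b0 = 1 := by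
  have h := chkPairs_ok
  simp only [chkPairs, Bool.and_eq_true] at h
  have := word_eq (w := [cls.getD 0 0, cls.getD 0 0]) (w' := [])
    (tabs_cons b0_mem (tabs_cons b0_mem tabs_nil)) h.1.1
  simpa [b0] using this

theorem b0_ne_one : b0 ≠ 1 := by
  intro e
  have h := chkPairs_ok
  simp only [chkPairs, Bool.and_eq_true, Bool.not_eq_true'] at h
  have hn : allBelow 100 (fun x => Schreier.evalWord [cls.getD 0 0] x == x) = true :=
    allBelow_iff.2 fun x hx => beq_iff_eq.2 <| by
      show app (cls.getD 0 0) x = x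
      have h1 : app (cls.getD 0 0) x = (perm (cls.getD 0 0) ⟨x, hx⟩).1 := rep_tabs b0_mem ⟨x, hx⟩
      rw [h1, show perm (cls.getD 0 0) = 1 from e]
      rfl
  exact Bool.false_ne_true (h.1.2.symm.trans hn)

theorem aInv_comm (k : Fin 5) : aInv k * b0 = b0 * aInv k := by
  have h := chkPairs_ok
  simp only [chkPairs, Bool.and_eq_true, List.all_eq_true] at h
  have := word_eq (w := [pairTabs.getD k 0, cls.getD 0 0]) (w' := [cls.getD 0 0, pairTabs.getD k 0])
    (tabs_cons (pair_getD_mem k.2) (tabs_cons b0_mem (tabs_cons b0_mem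
      (tabs_cons (pair_getD_mem k.2) tabs_nil)))) (h.2 k (List.mem_range.2 k.2)).1
  simpa [aInv, b0] using this

theorem perm_app_congr {t t' : ℕ} (ht : t ∈ tabs) (ht' : t' ∈ tabs) (e : perm t = perm t')
    (x : Fin 100) : app t x.1 = app t' x.1 := by
  have h1 : app t x.1 = (perm t x).1 := rep_tabs ht x
  have h2 : app t' x.1 = (perm t' x).1 := rep_tabs ht' x
  rw [h1, h2, e]

theorem aInv_distinct {k l : Fin 5} (e : aInv k = aInv l ∨ aInv k = aInv l * b0) : k = l := by
  by_contra hne
  have h := chkPairs_ok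
  simp only [chkPairs, Bool.and_eq_true, List.all_eq_true, Bool.or_eq_true, beq_iff_eq,
    Bool.not_eq_true'] at h
  obtain ⟨h1, h2⟩ := ((h.2 k (List.mem_range.2 k.2)).2 l (List.mem_range.2 l.2)).resolve_left
    fun e' => hne (Fin.ext e')
  rcases e with e | e
  · refine Bool.false_ne_true (h1.symm.trans (allBelow_iff.2 fun x hx => beq_iff_eq.2 ?_))
    exact perm_app_congr (pair_getD_mem k.2) (pair_getD_mem l.2) e ⟨x, hx⟩
  · refine Bool.false_ne_true (h2.symm.trans (allBelow_iff.2 fun x hx => beq_iff_eq.2 ?_))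
    show app (pairTabs.getD k 0) x = app (pairTabs.getD l 0) (app (cls.getD 0 0) x)
    have h1 : app (pairTabs.getD k 0) x = (aInv k ⟨x, hx⟩).1 := rep_tabs (pair_getD_mem k.2) ⟨x, hx⟩
    have h2 : app (cls.getD 0 0) x = (b0 ⟨x, hx⟩).1 := rep_tabs b0_mem ⟨x, hx⟩
    have h3 : app (pairTabs.getD l 0) (b0 ⟨x, hx⟩).1 = (aInv l (b0 ⟨x, hx⟩)).1 :=
      rep_tabs (pair_getD_mem l.2) _
    rw [h1, h2, h3, e, Perm.mul_apply]

/-- A member permutes the pairs as given. -/
def Rel (g : Perm (Fin 100)) (π : Perm (Fin 5)) : Prop :=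
  g * b0 = b0 * g ∧ ∀ k, g * aInv k = aInv (π k) * g ∨ g * aInv k = aInv (π k) * b0 * g

theorem rel_one : Rel 1 1 := ⟨by simp, fun k => Or.inl (by simp)⟩

theorem Rel.mul {g g' : Perm (Fin 100)} {π π' : Perm (Fin 5)} (h : Rel g π) (h' : Rel g' π') :
    Rel (g * g') (π * π') := by
  refine ⟨by rw [mul_assoc, h'.1, ← mul_assoc, h.1, mul_assoc], fun k => ?_⟩
  rw [Perm.mul_apply]
  rcases h'.2 k with e | e <;> rcases h.2 (π' k) with e' | e'
  · exact Or.inl (by rw [mul_assoc, e, ← mul_assoc, e', mul_assoc])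
  · exact Or.inr (by rw [mul_assoc, e, ← mul_assoc, e', mul_assoc])
  · refine Or.inr ?_
    rw [mul_assoc, e]
    simp only [← mul_assoc]
    rw [e', mul_assoc (aInv (π (π' k))) g b0, h.1]
    simp only [mul_assoc]
  · refine Or.inl ?_
    rw [mul_assoc, e]
    simp only [← mul_assoc]
    rw [e', mul_assoc _ g b0, h.1, ← mul_assoc, mul_assoc (aInv _) b0 b0, b0_sq, mul_one]

theorem Rel.unique {g : Perm (Fin 100)} {π π' : Perm (Fin 5)} (h : Rel g π) (h' : Rel g π') :
    π = π' := by
  refine Equiv.ext fun k => aInv_distinct ?_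
  rcases h.2 k with e | e <;> rcases h'.2 k with e' | e'
  · exact Or.inl (mul_right_cancel (e.symm.trans e'))
  · exact Or.inr (mul_right_cancel (e.symm.trans e'))
  · refine Or.inr ?_
    have := mul_right_cancel (e.symm.trans e')
    rw [← this, mul_assoc, b0_sq, mul_one]
  · exact Or.inl (mul_right_cancel (mul_right_cancel (e.symm.trans e')))

theorem rel_gen {j : ℕ} (hj' : j < 3) :
    Rel (perm (cGens.getD j 0)) (piGen (Fin.ofNat 3 j)) ∧ perm (cGens.getD j 0) ∈ hj := by
  have h := List.all_eq_true.1 chkGens_ok j (List.mem_range.2 hj')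
  simp only [Bool.and_eq_true, List.all_eq_true, Bool.or_eq_true] at h
  obtain ⟨⟨hs, hb⟩, hk⟩ := h
  have hg := cGens_getD_mem hj'
  refine ⟨⟨?_, fun k => ?_⟩, mem_hj hg hs⟩
  · have := word_eq (w := [cGens.getD j 0, cls.getD 0 0]) (w' := [cls.getD 0 0, cGens.getD j 0])
      (tabs_cons hg (tabs_cons b0_mem (tabs_cons b0_mem (tabs_cons hg tabs_nil)))) hb
    simpa [b0] using this
  · have hk' := hk k.1 (List.mem_range.2 k.2)
    rw [show Fin.ofNat 5 k.1 = k from Fin.ext (Nat.mod_eq_of_lt k.2)] at hk'
    rcases hk' with e | e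
    · left
      have := word_eq (tabs_cons hg (tabs_cons (pair_getD_mem k.2)
        (tabs_cons (pair_getD_mem (piGen _ k).2) (tabs_cons hg tabs_nil)))) e
      simpa [aInv] using this
    · right
      have := word_eq (tabs_cons hg (tabs_cons (pair_getD_mem k.2)
        (tabs_cons (pair_getD_mem (piGen _ k).2) (tabs_cons b0_mem (tabs_cons hg tabs_nil))))) e
      simpa [aInv, b0, mul_assoc] using this

theorem gen_index {t : ℕ} (ht : t ∈ cLevel0.gens) : ∃ j < 3, t = cGens.getD j 0 := by
  obtain ⟨j, hj', rfl⟩ := List.mem_map.1 ht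
  exact ⟨j, by simp at hj'; omega, rfl⟩

theorem centG_spec {g : Perm (Fin 100)} (hg : g ∈ centG) : g ∈ hj ∧ ∃ π, Rel g π := by
  have hg' : g ∈ Submonoid.closure
      {σ | ∃ t ∈ Schreier.topGens cChain, Rep (Equiv.refl (Fin 100)) σ t} := by
    rw [centG, Schreier.group] at hg
    rwa [← Subgroup.mem_toSubmonoid, Subgroup.closure_toSubmonoid_of_finite] at hg
  clear hg
  induction hg' using Submonoid.closure_induction with
  | mem s hs =>
    obtain ⟨t, ht, r⟩ := hs
    obtain ⟨j, hj', rfl⟩ := gen_index (show t ∈ cLevel0.gens from ht)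
    rw [eq_perm r]
    exact ⟨(rel_gen hj').2, _, (rel_gen hj').1⟩
  | one => exact ⟨one_mem _, 1, rel_one⟩
  | mul a b _ _ ha hb =>
    obtain ⟨ha, π, hπ⟩ := ha
    obtain ⟨hb, π', hπ'⟩ := hb
    exact ⟨mul_mem ha hb, _, hπ.mul hπ'⟩

/-- The inclusion into the group. -/
def toHj : centG →* hj := Subgroup.inclusion fun _ hg => (centG_spec hg).1

theorem range_toHj : toHj.range = centH := by
  haveI : Finite centH := inferInstance
  refine Subgroup.eq_of_le_of_card_ge ?_ ?_
  · rintro _ ⟨g, rfl⟩
    obtain ⟨-, π, hπ⟩ := centG_spec g.2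
    exact Subgroup.mem_centralizer_singleton_iff.2 (Subtype.ext hπ.1)
  · rw [card_centH, ← card_centG]
    exact (Nat.card_congr (MonoidHom.ofInjective (Subgroup.inclusion_injective _)).toEquiv).le

/-- The centraliser is the explicit group. -/
def centEquiv : centG ≃* centH :=
  (MonoidHom.ofInjective (Subgroup.inclusion_injective _)).trans (MulEquiv.subgroupCongr range_toHj)

/-- The action on the five pairs. -/
def psi5 : centG →* Perm (Fin 5) :=
  MonoidHom.mk' (fun g => (centG_spec g.2).2.choose) fun a b =>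
    ((centG_spec (a * b).2).2.choose_spec).unique
      ((centG_spec a.2).2.choose_spec.mul (centG_spec b.2).2.choose_spec)

theorem psi5_eq {g : centG} {π : Perm (Fin 5)} (h : Rel g π) : psi5 g = π :=
  ((centG_spec g.2).2.choose_spec).unique h

/-- The checks on the kernel. -/
def chkQ : Bool :=
  ((List.range 32).all fun i => Schreier.sift 100 cChain [(qPairs.map Prod.fst).getD i 0] &&
    (List.range 5).all fun k =>
      (allBelow 100 fun x => Schreier.evalWord [(qPairs.map Prod.fst).getD i 0, pairTabs.getD k 0] x ==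
        Schreier.evalWord [pairTabs.getD k 0, (qPairs.map Prod.fst).getD i 0] x) ||
      (allBelow 100 fun x => Schreier.evalWord [(qPairs.map Prod.fst).getD i 0, pairTabs.getD k 0] x ==
        Schreier.evalWord [pairTabs.getD k 0, cls.getD 0 0, (qPairs.map Prod.fst).getD i 0] x))

theorem chkQ_ok : chkQ = true := by decide +kernel

theorem qTabs_distinct : ((List.range 32).map fun i =>
    (List.range 100).map fun x => app ((qPairs.map Prod.fst).getD i 0) x).Nodup := by decide +kernel

/-- A member of the kernel, as a table. -/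
def qTab (i : Fin 32) : ℕ := (qPairs.map Prod.fst).getD i 0

theorem qTab_mem (i : Fin 32) : qTab i ∈ tabs := by
  refine q_mem ?_
  rw [qTab, List.getD_eq_getElem _ _ (by
    rw [show (qPairs.map Prod.fst).length = 32 from by decide +kernel]; exact i.2)]
  exact List.getElem_mem _

theorem qTab_centG (i : Fin 32) : perm (qTab i) ∈ centG ∧ Rel (perm (qTab i)) 1 := by
  have h := List.all_eq_true.1 chkQ_ok i.1 (List.mem_range.2 i.2)
  simp only [Bool.and_eq_true, List.all_eq_true, Bool.or_eq_true] at h
  have hm := qTab_mem i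
  have hc : perm (qTab i) ∈ centG := by
    have := (Schreier.sift_sound cChain (Schreier.levelSpec_of_ok _ cChain_ok cChain_perms)
      [qTab i] [perm (qTab i)] (.cons (rep_tabs hm) .nil) h.1).1
    simpa [centG] using this
  refine ⟨hc, ?_⟩
  obtain ⟨-, π, hπ⟩ := centG_spec hc
  refine ⟨hπ.1, fun k => ?_⟩
  rcases h.2 k.1 (List.mem_range.2 k.2) with e | e
  · left
    have := word_eq (tabs_cons hm (tabs_cons (pair_getD_mem k.2)
      (tabs_cons (pair_getD_mem k.2) (tabs_cons hm tabs_nil)))) e
    simpa [aInv, qTab] using this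
  · right
    have := word_eq (tabs_cons hm (tabs_cons (pair_getD_mem k.2)
      (tabs_cons (pair_getD_mem k.2) (tabs_cons b0_mem (tabs_cons hm tabs_nil))))) e
    simpa [aInv, qTab, b0, mul_assoc] using this

/-- A member of the kernel. -/
def qEl (i : Fin 32) : psi5.ker :=
  ⟨⟨perm (qTab i), (qTab_centG i).1⟩, psi5_eq (qTab_centG i).2⟩

theorem qEl_injective : Function.Injective qEl := fun i j e => by
  have e' : perm (qTab i) = perm (qTab j) := congrArg (fun q : psi5.ker => ((q : centG) : Perm (Fin 100))) e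
  refine Fin.ext (List.inj_on_of_nodup_map qTabs_distinct (List.mem_range.2 i.2)
    (List.mem_range.2 j.2) ?_)
  exact List.map_congr_left fun x hx =>
    perm_app_congr (qTab_mem i) (qTab_mem j) e' ⟨x, List.mem_range.1 hx⟩

/-- The permutation of a word in the generators. -/
def piWord : List ℕ → Perm (Fin 5)
  | [] => 1
  | j :: w => piGen (Fin.ofNat 3 j) * piWord w

theorem imgWords_nodup : (imgWords.map piWord).Nodup ∧ imgWords.length = 60 := by decide +kernel

theorem piWord_mem : ∀ w : List ℕ, piWord w ∈ psi5.range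
  | [] => one_mem _
  | j :: w => by
    refine mul_mem ?_ (piWord_mem w)
    have hlt : (Fin.ofNat 3 j).1 < 3 := (Fin.ofNat 3 j).2
    obtain ⟨hr, -⟩ := rel_gen hlt
    have hm : perm (cGens.getD (Fin.ofNat 3 j).1 0) ∈ centG :=
      Subgroup.subset_closure ⟨_, List.mem_map.2 ⟨(Fin.ofNat 3 j).1, by simp; omega, rfl⟩,
        rep_tabs (cGens_getD_mem hlt)⟩
    refine ⟨⟨_, hm⟩, psi5_eq ?_⟩
    rwa [show Fin.ofNat 3 (Fin.ofNat 3 j).1 = Fin.ofNat 3 j from
      Fin.ext (Nat.mod_eq_of_lt hlt)] at hr

theorem range_psi5 : psi5.range = alternatingGroup (Fin 5) ∧ Nat.card psi5.ker = 32 := by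
  have h60 : 60 ≤ Nat.card psi5.range := by
    obtain ⟨hnd, hlen⟩ := imgWords_nodup
    let f : Fin 60 → psi5.range := fun i => ⟨piWord (imgWords.getD i []), piWord_mem _⟩
    have hf : Function.Injective f := fun i j e => by
      have e' : piWord (imgWords.getD i []) = piWord (imgWords.getD j []) := congrArg Subtype.val e
      rw [List.getD_eq_getElem _ _ (show i.1 < imgWords.length by omega),
        List.getD_eq_getElem _ _ (show j.1 < imgWords.length by omega)] at e'
      exact Fin.ext ((hnd.getElem_inj_iff (i := i.1) (j := j.1) (hi := by simp [hlen])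
        (hj := by simp [hlen])).1 (by simpa using e'))
    simpa using Nat.card_le_card_of_injective f hf
  have h32 : 32 ≤ Nat.card psi5.ker := by
    simpa using Nat.card_le_card_of_injective qEl qEl_injective
  have hmul : Nat.card psi5.range * Nat.card psi5.ker = 1920 := by
    rw [← card_centG, ← Nat.card_congr (QuotientGroup.quotientKerEquivRange psi5).toEquiv]
    exact (Subgroup.card_eq_card_quotient_mul_card_subgroup psi5.ker).symm
  have hk : Nat.card psi5.ker = 32 := by nlinarith
  have hr : Nat.card psi5.range = 60 := by rw [hk] at hmul; omega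
  refine ⟨Equiv.Perm.eq_alternatingGroup_of_index_eq_two ?_, hk⟩
  have := psi5.range.card_mul_index
  rw [hr, Nat.card_perm, Nat.card_fin] at this
  norm_num [Nat.factorial] at this
  omega

theorem qEl_surjective : Function.Surjective qEl :=
  (qEl_injective.bijective_of_nat_card_le (by rw [range_psi5.2, Nat.card_fin])).2

end CfsgLib.J2Cent
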