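import Cfsg.Agent.Mathieu.HallJanko
import Cfsg.Agent.J2Cent.Data

/-! Equations between permutations on one hundred points from their tables. -/

set_option autoImplicit false
set_option maxRecDepth 100000

noncomputable section

namespace CfsgLib.J2Cent

open CfsgLib.Mathieu
open Equiv (Perm)

/-- The permutation with a given table, when there is one. -/
def perm (t : ℕ) : Perm (Fin 100) :=
  letI := Classical.propDecidable (∃ σ, Rep (Equiv.refl (Fin 100)) σ t)
  if h : ∃ σ, Rep (Equiv.refl (Fin 100)) σ t then h.choose else 1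

theorem rep_perm {t : ℕ} (h : ∃ σ, Rep (Equiv.refl (Fin 100)) σ t) :
    Rep (Equiv.refl (Fin 100)) (perm t) t := by
  rw [perm, dif_pos h]; exact h.choose_spec

theorem eq_perm {t : ℕ} {σ : Perm (Fin 100)} (r : Rep (Equiv.refl (Fin 100)) σ t) : σ = perm t :=
  Equiv.ext fun x => r.apply_eq _ (rep_perm ⟨σ, r⟩ x)

/-- The tables used. -/
def pairsAll : List (ℕ × ℕ) :=
  HallJanko.strongPairs ++
    (Data.cPairs ++ (Data.qPairs ++ (Data.cls ++ Data.pairTabs).map fun t => (t, t)))

theorem pairsAll_ok : Schreier.gensOK 100 pairsAll = true := by decide +kernel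

/-- The tables that are those of permutations. -/
def tabs : List ℕ := pairsAll.map Prod.fst

theorem rep_tabs {t : ℕ} (h : t ∈ tabs) : Rep (Equiv.refl (Fin 100)) (perm t) t :=
  rep_perm (Schreier.exists_rep_of_gensOK pairsAll_ok t h)

/-- Products of tables agree when they agree on the points. -/
theorem prod_eq {w w' : List ℕ} (hw : ∀ t ∈ w, t ∈ tabs) (hw' : ∀ t ∈ w', t ∈ tabs)
    (h : allBelow 100 (fun x => Schreier.evalWord w x == Schreier.evalWord w' x) = true) :
    (w.map perm).prod = (w'.map perm).prod := by
  have f : ∀ v : List ℕ, (∀ t ∈ v, t ∈ tabs) →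
      List.Forall₂ (fun t σ => Rep (Equiv.refl (Fin 100)) σ t) v (v.map perm) := by
    intro v hv
    induction v with
    | nil => exact .nil
    | cons a v ih =>
      exact .cons (rep_tabs (hv a List.mem_cons_self)) (ih fun t ht => hv t (List.mem_cons_of_mem _ ht))
  refine Equiv.ext fun x => Fin.ext ?_
  have := allBelow_iff.1 h x.1 x.2
  rw [beq_iff_eq, Schreier.evalWord_eq (f w hw), Schreier.evalWord_eq (f w' hw')] at this
  exact this

theorem cls_mem {t : ℕ} (h : t ∈ Data.cls) : t ∈ tabs := by
  simp only [tabs, pairsAll, List.map_append, List.map_map, List.mem_append]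
  exact Or.inr (Or.inr (Or.inr (by simp [h])))

theorem pair_mem {t : ℕ} (h : t ∈ Data.pairTabs) : t ∈ tabs := by
  simp only [tabs, pairsAll, List.map_append, List.map_map, List.mem_append]
  exact Or.inr (Or.inr (Or.inr (by simp [h])))

theorem c_mem {t : ℕ} (h : t ∈ Data.cGens) : t ∈ tabs := by
  simp only [tabs, pairsAll, List.map_append, List.map_map, List.mem_append]
  exact Or.inr (Or.inl h)

theorem q_mem {t : ℕ} (h : t ∈ Data.qPairs.map Prod.fst) : t ∈ tabs := by
  simp only [tabs, pairsAll, List.map_append, List.map_map, List.mem_append]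
  exact Or.inr (Or.inr (Or.inl h))

theorem strong_mem {t : ℕ} (h : t ∈ HallJanko.strong) : t ∈ tabs := by
  simp only [tabs, pairsAll, List.map_append, List.map_map, List.mem_append]
  exact Or.inl h

/-- The involution. -/
def b0 : Perm (Fin 100) := perm (Data.cls.getD 0 0)

theorem cls_length : Data.cls.length = 315 := by decide +kernel

theorem cls_getD_mem {i : ℕ} (h : i < 315) : Data.cls.getD i 0 ∈ Data.cls := by
  rw [List.getD_eq_getElem _ _ (by rw [cls_length]; exact h)]
  exact List.getElem_mem _

theorem b0_mem : Data.cls.getD 0 0 ∈ tabs := cls_mem (cls_getD_mem (by norm_num))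

end CfsgLib.J2Cent
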